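import Cfsg.Agent.H517.CY.Par
import Cfsg.Agent.S0145
import Cfsg.Agent.Characters.GaloisBasic
import Cfsg.Agent.Blocks.ExistsModular
import Cfsg.Agent.CharactersDeep.ModCongr

/-!
# S4829, the parity tool with a small centralizer (helper517)

`witO_of_cent` : `x` a nontrivial rational `p`-element with `|C(x)| ≤ p ^ 2` (no condition on the Sylow subgroups).
-/

set_option autoImplicit false

open Subgroup
open scoped ComplexConjugate

namespace Cfsg.Agent.H517.CY

open Cfsg Cfsg.Agent.H770.CY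

universe u

variable {G : Type u} [Group G]

theorem dvd_sub_of_int [Finite G] {p : ℕ} (hp : p.Prime) (χ : IrrCharacter G) {g : G}
    (hg : ∃ k : ℕ, orderOf g = p ^ k) {k : ℤ} (hk : (χ : G → ℂ) g = k) :
    (p : ℤ) ∣ k - (charDegree (χ : G → ℂ) : ℤ) := by
  have := Fintype.ofFinite G
  obtain ⟨M, hM⟩ := Blocks.ExistsModular.exists_isPModular hp
  have h1 := CharactersDeep.ModCongr.memLocalIdeal_character_sub hM χ.2 g g
    ⟨1, mul_one g, Commute.one_right g, hg, by rw [orderOf_one]; exact fun h => hp.one_lt.ne' (Nat.dvd_one.1 h)⟩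
  rw [inv_mul_cancel, hk, Blocks.Basic.irr_one_eq_charDegree χ.2] at h1
  have h2 : ((k : ℂ) - (charDegree (χ : G → ℂ) : ℂ)) = ((k - (charDegree (χ : G → ℂ) : ℤ) : ℤ) : ℂ) := by
    push_cast; rfl
  rw [h2, Blocks.Local.memLocalIdeal_intCast_iff hM] at h1
  exact h1

theorem sum_normSq [Finite G] [Fintype (IrrCharacter G)] (g : G) :
    ∑ χ : IrrCharacter G, Complex.normSq ((χ : G → ℂ) g) = (Nat.card (centralizer ({g} : Set G)) : ℝ) := by
  classical
  have := Fintype.ofFinite G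
  have h := S0145.sum_irr_mul_conj g g
  rw [if_pos (IsConj.refl g)] at h
  have h2 : ∀ χ : IrrCharacter G, (χ : G → ℂ) g * conj ((χ : G → ℂ) g) = (Complex.normSq ((χ : G → ℂ) g) : ℂ) :=
    fun χ => Complex.mul_conj _
  rw [Finset.sum_congr rfl fun χ _ => h2 χ, ← Complex.ofReal_sum] at h
  exact_mod_cast h

/-- **The parity tool, `|C(x)| ≤ p ^ 2`.** -/
theorem witO_of_cent [Finite G] {p : ℕ} [hp : Fact p.Prime] {x : G} (hx : ∃ k : ℕ, orderOf x = p ^ k) (hx1 : x ≠ 1)
    (hz : ∀ χ : IrrCharacter G, ∃ z : ℤ, (χ : G → ℂ) x = z)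
    (hc : Nat.card (centralizer ({x} : Set G)) ≤ p ^ 2) (hg : ∀ g : G, Good p g) : H629.CY.WitO p G := by
  classical
  intro M hM
  have hpx : p ∣ orderOf x := by
    obtain ⟨k, hk⟩ := hx
    rw [hk]
    refine dvd_pow_self p ?_
    rintro rfl
    rw [pow_zero, orderOf_eq_one_iff] at hk
    exact hx1 hk
  obtain ⟨θ, h1, h2, h4, ⟨z, hzo, hzx⟩, h5⟩ := exists_odd hM hpx hz
    (fun k hk hkp ho g => isConj_of_good (hg g) hk hkp ho)
  refine ⟨θ, h1, h2, fun hd => ?_, h4, h5⟩
  have := Fintype.ofFinite G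
  have hfin : Finite (IrrCharacter G) := S0909.finite_irr
  have := Fintype.ofFinite (IrrCharacter G)
  have h6 := dvd_sub_of_int hp.out θ hx hzx
  have h7 : (p : ℤ) ∣ z := by
    have h8 : (p : ℤ) ∣ (charDegree (θ : G → ℂ) : ℤ) := by exact_mod_cast hd
    have h9 := dvd_add h6 h8
    rwa [sub_add_cancel] at h9
  have hz0 : z ≠ 0 := by
    rintro rfl
    exact absurd hzo (by decide)
  have h8 : (p : ℤ) ^ 2 ≤ z ^ 2 := by
    have h9 := Int.le_of_dvd (abs_pos.2 hz0) ((dvd_abs _ _).2 h7)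
    calc (p : ℤ) ^ 2 ≤ |z| ^ 2 := pow_le_pow_left₀ (by positivity) h9 2
      _ = z ^ 2 := sq_abs z
  let one : IrrCharacter G := ⟨fun _ => 1, Blocks.Basic.isIrrCharacter_one⟩
  have hne : one ≠ θ := fun h => h2 (by rw [← h])
  have h10 := sum_normSq x
  have h11 : Complex.normSq ((one : G → ℂ) x) + Complex.normSq ((θ : G → ℂ) x) ≤
      (Nat.card (centralizer ({x} : Set G)) : ℝ) := by
    rw [← h10, ← Finset.sum_pair hne (f := fun χ : IrrCharacter G => Complex.normSq ((χ : G → ℂ) x))]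
    exact Finset.sum_le_sum_of_subset_of_nonneg (Finset.subset_univ _) fun i _ _ => Complex.normSq_nonneg _
  have h12 : Complex.normSq ((one : G → ℂ) x) = 1 := by
    show Complex.normSq 1 = 1
    simp
  have h13 : Complex.normSq ((θ : G → ℂ) x) = (z : ℝ) ^ 2 := by
    rw [hzx, show (z : ℂ) = ((z : ℝ) : ℂ) by push_cast; rfl, Complex.normSq_ofReal]
    ring
  rw [h12, h13] at h11
  have h14 : ((p : ℤ) : ℝ) ^ 2 ≤ (z : ℝ) ^ 2 := by exact_mod_cast h8
  have h15 : (Nat.card (centralizer ({x} : Set G)) : ℝ) ≤ ((p : ℤ) : ℝ) ^ 2 := by exact_mod_cast hc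
  linarith

/-- integer values from the conjugacy of the powers -/
theorem int_of_conj [Finite G] {x : G} (h : ∀ m : ℕ, m.Coprime (Nat.card G) → IsConj (x ^ m) x) (χ : IrrCharacter G) :
    ∃ z : ℤ, (χ : G → ℂ) x = z := by
  have hχ := Blocks.Basic.irr_isCharacter χ.2
  refine Characters.GaloisBasic.exists_int_of_rat hχ x ((Characters.GaloisBasic.exists_rat_iff hχ x).2 fun m hm => ?_)
  obtain ⟨c, hc⟩ := isConj_iff.1 (h m hm)
  have e := Blocks.Basic.irr_conj χ.2 (x ^ m) c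
  rw [hc] at e
  exact e.symm

universe v

theorem witO_congr {p : ℕ} {S : Type u} {T : Type v} [Group S] [Finite S] [Group T] (e : S ≃* T)
    (h : H629.CY.WitO p T) : H629.CY.WitO p S := by
  intro M hM
  obtain ⟨θ, h1, h2, h3, h4, h5⟩ := h M hM
  have hd : charDegree (fun s : S => (θ : T → ℂ) (e s)) = charDegree (θ : T → ℂ) := by
    unfold charDegree
    simp only [map_one]
  refine ⟨⟨_, Characters.Core.isIrr_comp (e : S →* T) e.surjective θ.2⟩, H493.RatB.mem_principalBlock_comp e h1,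
    fun h6 => h2 (by
      funext y
      obtain ⟨x, rfl⟩ := e.surjective y
      exact congrFun h6 x), ?_, ?_, fun k hk hkp g => ?_⟩
  · show ¬ p ∣ charDegree (fun s : S => (θ : T → ℂ) (e s))
    rwa [hd]
  · show Odd (charDegree (fun s : S => (θ : T → ℂ) (e s)))
    rwa [hd]
  · show (θ : T → ℂ) (e (g ^ k)) = (θ : T → ℂ) (e g)
    rw [map_pow]
    exact h5 k (by rwa [← Nat.card_congr e.toEquiv]) hkp _

end Cfsg.Agent.H517.CY
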