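import Cfsg.Agent.H517.CY.Cent
import Cfsg.Agent.H922.TC.Eng
import Cfsg.Agent.H922.Ore.HSFinal

/-!
# S4829, `HS`, `p = 3` (helper517)

The parity tool; the elements from helper922's class cover.
-/

set_option autoImplicit false

open Subgroup

namespace Cfsg.Agent.H517.CY.HS

open Equiv Cfsg.Agent.HN.HS100 Cfsg.Agent.HN.Pres Cfsg.Agent.SporadicA.PermTab
open Cfsg.Agent.H922.Ore.Gr Cfsg.Agent.H922.Ore.HS Cfsg.Agent.H922.TC

/-- the orders -/
def od : Fin 21 → ℕ := ![1, 2, 2, 3, 4, 4, 4, 5, 5, 5, 6, 6, 7, 8, 8, 10, 10, 11, 12, 15, 20]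

theorem od_chk : ∀ i : Fin 21, eqv 100 (List.replicate (od i) (D i).X) [] = true := by
  intro i
  revert i
  decide +kernel

theorem classes : (∀ i, ∃ x ∈ Q, Acts x [(D i).X]) ∧
    ∀ g ∈ Q, ∃ i, ∃ x ∈ Q, Acts x [(D i).X] ∧ ∃ c ∈ φ.range, c * x * c⁻¹ = g :=
  conj_all (R := φ.range) (A := adjA) Q_le_range range_le norm_Q D chk_all mem_all (by
    intro i j
    revert i j
    decide +kernel) (by
    rw [card_range, card_Q_eq]
    decide +kernel)

theorem acts_pow {x : Perm (Fin 100)} {P : ℕ} (h : Acts x [P]) (m : ℕ) : Acts (x ^ m) (List.replicate m P) := by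
  induction m with
  | zero => exact Acts.one
  | succ m ih =>
    rw [pow_succ']
    have h1 := Acts.mul h ih
    rw [show List.replicate (m + 1) P = List.replicate m P ++ [P] from List.replicate_succ']
    exact h1

theorem pow_od {x : Perm (Fin 100)} {i : Fin 21} (h : Acts x [(D i).X]) : x ^ od i = 1 :=
  Acts.eq (acts_pow h _) Acts.one (od_chk i)

/-- the classes -/
theorem cls (g : Perm (Fin 100)) (hg : g ∈ Q) : ∃ i, g ^ od i = 1 ∧ ∃ x ∈ Q, Acts x [(D i).X] ∧
    ∃ c ∈ φ.range, c * x * c⁻¹ = g := by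
  obtain ⟨i, x, hx, ha, c, hc, rfl⟩ := classes.2 g hg
  refine ⟨i, ?_, x, hx, ha, c, hc, rfl⟩
  rw [conj_pow, pow_od ha, mul_one, mul_inv_cancel]

/-- elements of prime order `q`, `q = 3, 7, 11`, are conjugate in `HS:2` -/
theorem conj_of_prime {q : ℕ} (i₀ : Fin 21) (hi : ∀ i : Fin 21, q ∣ od i → od i = q → i = i₀)
    (hn : ∀ i : Fin 21, od i % q = 0 → od i ≠ q → eqv 100 (List.replicate q (D i).X) [] = false)
    {g h : Perm (Fin 100)} (hg : g ∈ Q) (hh : h ∈ Q) (hgo : orderOf g = q) (hho : orderOf h = q) :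
    ∃ c ∈ φ.range, c * g * c⁻¹ = h := by
  have key : ∀ g : Perm (Fin 100), g ∈ Q → orderOf g = q → ∃ x ∈ Q, Acts x [(D i₀).X] ∧ ∃ c ∈ φ.range, c * x * c⁻¹ = g := by
    intro g hg hgo
    obtain ⟨i, h1, x, hx, ha, c, hc, he⟩ := cls g hg
    have h2 : q ∣ od i := by
      rw [← hgo]
      exact orderOf_dvd_of_pow_eq_one h1
    have h3 : od i = q := by
      by_contra h4
      have h5 := hn i (Nat.mod_eq_zero_of_dvd h2) h4
      have h6 : x ^ q = 1 := by
        have h7 : g ^ q = 1 := by rw [← hgo, pow_orderOf_eq_one]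
        rw [← he, conj_pow] at h7
        have h8 := congrArg (fun z => c⁻¹ * z * c) h7
        simpa [mul_assoc] using h8
      have h7 := acts_pow ha q
      rw [h6] at h7
      have h8 : eqv 100 (List.replicate q (D i).X) [] = true := by
        unfold eqv
        rw [allB_iff]
        intro j hj
        have h9 := h7 ⟨j, hj⟩
        simp only [Perm.coe_one, id_eq] at h9
        rw [← h9]
        exact Nat.beq_refl _
      rw [h5] at h8
      exact absurd h8 (by decide)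
    rw [hi i h2 h3] at ha
    exact ⟨x, hx, ha, c, hc, he⟩
  obtain ⟨x, hx, ha, c, hc, he⟩ := key g hg hgo
  obtain ⟨y, hy, hb, d, hd, hf⟩ := key h hh hho
  have hxy : x = y := Acts.eq ha hb (by
    unfold eqv
    rw [allB_iff]
    intro j _
    exact Nat.beq_refl _)
  subst hxy
  refine ⟨d * c⁻¹, φ.range.mul_mem hd (φ.range.inv_mem hc), ?_⟩
  rw [← he, ← hf]
  group

/-- `g ~ g ^ (a ^ 2)` in `HS` -/
theorem conj_sq {q : ℕ} (hq : q.Prime) (i₀ : Fin 21) (hi : ∀ i : Fin 21, q ∣ od i → od i = q → i = i₀)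
    (hn : ∀ i : Fin 21, od i % q = 0 → od i ≠ q → eqv 100 (List.replicate q (D i).X) [] = false)
    (g : ↥Q) (hgo : orderOf g = q) (a : ℕ) (ha : a.Coprime q) : IsConj (g ^ (a * a)) g := by
  have h1 : orderOf (g : Perm (Fin 100)) = q := by rw [Subgroup.orderOf_coe, hgo]
  have h2 : orderOf ((g : Perm (Fin 100)) ^ a) = q := by
    rw [Nat.Coprime.orderOf_pow (by rw [h1]; exact ha.symm), h1]
  obtain ⟨c, hc, e⟩ := conj_of_prime i₀ hi hn g.2 (Q.pow_mem g.2 a) h1 h2
  have hcc : c * c ∈ Q := by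
    refine (mem_Q_iff (φ.range.mul_mem hc hc)).2 ?_
    rw [map_mul]
    exact Int.units_mul_self _
  have e2 : (c * c) * (g : Perm (Fin 100)) * (c * c)⁻¹ = (g : Perm (Fin 100)) ^ (a * a) := by
    calc (c * c) * (g : Perm (Fin 100)) * (c * c)⁻¹ = c * (c * g * c⁻¹) * c⁻¹ := by group
      _ = c * (g : Perm (Fin 100)) ^ a * c⁻¹ := by rw [e]
      _ = (c * g * c⁻¹) ^ a := by rw [conj_pow]
      _ = _ := by rw [e, ← pow_mul]
  have _ := hq
  refine (isConj_iff.2 ⟨(⟨c * c, hcc⟩ : ↥Q), Subtype.ext ?_⟩).symm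
  exact e2

theorem od_cases : ∀ i : Fin 21, od i = 7 ∨ od i = 11 ∨ Nat.totient (od i) ∣ 2 ^ 3 := by decide +kernel

theorem good (g : ↥Q) : Good 3 g := by
  obtain ⟨i, h1, -⟩ := cls g g.2
  have h2 : g ^ od i = 1 := Subtype.ext h1
  have h3 := orderOf_dvd_of_pow_eq_one h2
  have hp : ∀ q : ℕ, q.Prime → od i = q → orderOf g = q ∨ orderOf g = 1 := by
    intro q hq h
    rw [h] at h3
    exact ((Nat.dvd_prime hq).1 h3).symm
  have h0 : orderOf g = 1 → Good 3 g := fun h => Or.inl ⟨0, by rw [h]; simp⟩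
  rcases od_cases i with h | h | h
  · rcases hp 7 (by norm_num) h with h4 | h4
    · refine Or.inr ⟨3, 9, conj_sq (q := 7) (by norm_num) 12 (by decide) (by decide) g h4 3 (by norm_num), ?_⟩
      rw [h4]
      decide
    · exact h0 h4
  · rcases hp 11 (by norm_num) h with h4 | h4
    · refine Or.inr ⟨5, 25, conj_sq (q := 11) (by norm_num) 17 (by decide) (by decide) g h4 5 (by norm_num), ?_⟩
      rw [h4]
      decide
    · exact h0 h4
  · exact Or.inl ⟨3, (Nat.totient_dvd_of_dvd h3).trans h⟩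

/-- a real element of order 3 -/
theorem exists_three : ∃ x : ↥Q, orderOf x = 3 ∧ IsConj x x⁻¹ := by
  obtain ⟨a, haQ, ha⟩ := exists_ev (G := Q) [tX] (fun P hP => in5g P (by revert P; decide +kernel))
  obtain ⟨b, hbQ, hb⟩ := exists_ev (G := Q) [tY, tX, tYi] (fun P hP => in5g P (by revert P; decide +kernel))
  have haa : a * a = 1 := Acts.eq (Acts.mul ha ha) Acts.one (by decide +kernel)
  have hbb : b * b = 1 := Acts.eq (Acts.mul hb hb) Acts.one (by decide +kernel)
  have hab := Acts.mul ha hb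
  have h3 : (a * b) ^ 3 = 1 := by
    have e : (a * b) ^ 3 = (a * b) * ((a * b) * (a * b)) := pow_three _
    rw [e]
    exact Acts.eq (Acts.mul hab (Acts.mul hab hab)) Acts.one (by decide +kernel)
  have h1 : a * b ≠ 1 := by
    intro h
    rw [h] at hab
    have h4 := hab 0
    revert h4
    decide +kernel
  refine ⟨⟨a * b, Q.mul_mem haQ hbQ⟩, ?_, isConj_iff.2 ⟨⟨a, haQ⟩, Subtype.ext ?_⟩⟩
  · rw [Subgroup.orderOf_mk]
    exact orderOf_eq_prime (hp := ⟨by norm_num⟩) h3 h1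
  · show a * (a * b) * a⁻¹ = (a * b)⁻¹
    have hai : a⁻¹ = a := inv_eq_of_mul_eq_one_left haa
    have hbi : b⁻¹ = b := inv_eq_of_mul_eq_one_left hbb
    rw [mul_inv_rev, hai, hbi]
    calc a * (a * b) * a = (a * a) * b * a := by group
      _ = b * a := by rw [haa, one_mul]

theorem card_Q' : Nat.card ↥Q = 44352000 := card_Q_eq

theorem witO_Q : H629.CY.WitO 3 ↥Q := by
  have : Finite ↥Q := Nat.finite_of_card_ne_zero (by rw [card_Q']; norm_num)
  have : Fact (Nat.Prime 3) := ⟨by norm_num⟩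
  obtain ⟨x, hx, hr⟩ := exists_three
  refine witO (x := x) (by rw [card_Q']; norm_num) (by rw [hx]) (int_of_conj fun m hm => ?_) good
  rw [card_Q'] at hm
  have h3 : ¬ 3 ∣ m := fun h => by
    have h4 := Nat.dvd_gcd h (show 3 ∣ 44352000 by norm_num)
    rw [hm] at h4
    norm_num at h4
  have h4 : m % 3 = 1 ∨ m % 3 = 2 := by omega
  rw [← pow_mod_orderOf, hx]
  rcases h4 with h4 | h4 <;> rw [h4]
  · rw [pow_one]
  · have h5 : x ^ 2 = x⁻¹ := by
      have h6 : x ^ 3 = 1 := by rw [← hx, pow_orderOf_eq_one]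
      rw [eq_inv_iff_mul_eq_one, ← pow_succ]
      exact h6
    rw [h5]
    exact hr.symm

/-- **`(HS, 3)`.** -/
theorem witO_hs {S : Type*} [Group S] (h : Cfsg.Spor.IsoHS S) : H629.CY.WitO 3 S := by
  obtain ⟨⟨e⟩, -⟩ := Cfsg.Agent.HN.AutHS.nonempty_Q
  obtain ⟨f⟩ := h
  have : Finite ↥Q := Nat.finite_of_card_ne_zero (by rw [card_Q']; norm_num)
  have : Finite S := Finite.of_equiv _ (f.trans e.symm).symm.toEquiv
  exact witO_congr (f.trans e.symm) witO_Q

end Cfsg.Agent.H517.CY.HS
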