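import Cfsg.Agent.S0907
import Cfsg.Agent.OddOrderCharacters.GaloisTwist
import Cfsg.Agent.H657.BrauerFeit
import Cfsg.Agent.H629.CY.Defs

/-!
# S4829, the parity tool (helper517)

`exists_odd` : `B₀` contains a nontrivial `Q(ζ_p)`-valued character of odd degree, as soon as the elements of odd order
of the Galois group of `Q(ζ_n) / Q(ζ_p)` fix all the conjugacy classes.
-/

set_option autoImplicit false

open Subgroup
open scoped ComplexConjugate

namespace Cfsg.Agent.H517.CY

open Cfsg Cfsg.Agent.H770.CY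

universe u

variable {G : Type u} [Group G]

/-- the power map on irreducible characters -/
noncomputable def powC [Finite G] (k : ℕ) (hk : k.Coprime (Nat.card G)) (χ : IrrCharacter G) : IrrCharacter G :=
  ⟨fun g => (χ : G → ℂ) (g ^ k), OddOrderCharacters.GaloisTwist.isIrrCharacter_pow hk χ.2⟩

theorem powC_apply [Finite G] (k : ℕ) (hk : k.Coprime (Nat.card G)) (χ : IrrCharacter G) (g : G) :
    (powC k hk χ : G → ℂ) g = (χ : G → ℂ) (g ^ k) := rfl

theorem pow_val [Finite G] (g : G) (k : ℕ) : g ^ ((k : ZMod (Nat.card G)).val) = g ^ k := by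
  rw [ZMod.val_natCast, pow_mod_natCard]

/-- the action of `(Z/n)ˣ` on the irreducible characters -/
@[reducible] noncomputable def act [Finite G] : MulAction (ZMod (Nat.card G))ˣ (IrrCharacter G) where
  smul u χ := powC (u : ZMod (Nat.card G)).val (ZMod.val_coe_unit_coprime u) χ
  one_smul χ := by
    apply Subtype.ext
    funext g
    show (χ : G → ℂ) (g ^ (((1 : (ZMod (Nat.card G))ˣ) : ZMod (Nat.card G)).val)) = _
    have h : (((1 : (ZMod (Nat.card G))ˣ) : ZMod (Nat.card G))) = ((1 : ℕ) : ZMod (Nat.card G)) := by simp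
    rw [h, pow_val, pow_one]
  mul_smul u v χ := by
    apply Subtype.ext
    funext g
    show (χ : G → ℂ) (g ^ (((u * v : (ZMod (Nat.card G))ˣ) : ZMod (Nat.card G)).val)) =
      (χ : G → ℂ) ((g ^ ((u : ZMod (Nat.card G)).val)) ^ ((v : ZMod (Nat.card G)).val))
    rw [← pow_mul, Units.val_mul, ZMod.val_mul, pow_mod_natCard]

attribute [local instance] act

theorem act_apply [Finite G] (u : (ZMod (Nat.card G))ˣ) (χ : IrrCharacter G) (g : G) :
    ((u • χ : IrrCharacter G) : G → ℂ) g = (χ : G → ℂ) (g ^ ((u : ZMod (Nat.card G)).val)) := rfl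

theorem centralizer_pow [Finite G] {m : ℕ} (hm : m.Coprime (Nat.card G)) (g : G) :
    centralizer ({g ^ m} : Set G) = centralizer ({g} : Set G) := by
  ext x
  rw [mem_centralizer_singleton_iff, mem_centralizer_singleton_iff]
  constructor
  · intro h
    obtain ⟨k, hk⟩ := exists_pow_eq_self_of_coprime (x := g) (n := m)
      (Nat.Coprime.coprime_dvd_right (orderOf_dvd_natCard g) hm)
    have h1 : Commute x (g ^ m) := h
    have h2 := h1.pow_right k
    rw [hk] at h2
    exact h2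
  · intro h
    have h1 : Commute x g := h
    exact h1.pow_right m

/-- The principal block is stable. -/
theorem powC_mem [Finite G] {M : Ideal AlgInt} {k : ℕ} (hk : k.Coprime (Nat.card G)) {χ : IrrCharacter G}
    (h : χ ∈ principalBlock M G) : powC k hk χ ∈ principalBlock M G := by
  have h1 : SameBlock M (fun _ : G => (1 : ℂ)) (χ : G → ℂ) := h
  show SameBlock M (fun _ : G => (1 : ℂ)) (powC k hk χ : G → ℂ)
  intro g
  have h2 := h1 (g ^ k)
  have h3 : centralChar (fun _ : G => (1 : ℂ)) (g ^ k) = centralChar (fun _ : G => (1 : ℂ)) g := by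
    unfold centralChar
    rw [centralizer_pow hk]
  have h4 : centralChar (powC k hk χ : G → ℂ) g = centralChar (χ : G → ℂ) (g ^ k) := by
    unfold centralChar
    rw [centralizer_pow hk, powC_apply, powC_apply, one_pow]
  rw [h3] at h2
  rw [h4]
  exact h2

theorem charDegree_cast (χ : IrrCharacter G) [Finite G] : (χ : G → ℂ) 1 = (charDegree (χ : G → ℂ) : ℂ) := by
  have := Fintype.ofFinite G
  exact Blocks.Basic.irr_one_eq_charDegree χ.2

/-- the units congruent to 1 modulo `p` -/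
def ker (p n : ℕ) (h : p ∣ n) : Subgroup (ZMod n)ˣ :=
  (Units.map (ZMod.castHom h (ZMod p) : ZMod n →* ZMod p)).ker

theorem mem_ker {p n : ℕ} [NeZero n] (h : p ∣ n) (u : (ZMod n)ˣ) : u ∈ ker p n h ↔ (u : ZMod n).val ≡ 1 [MOD p] := by
  have : NeZero n := inferInstance
  unfold ker
  rw [MonoidHom.mem_ker, Units.ext_iff]
  simp only [Units.coe_map, MonoidHom.coe_coe, Units.val_one]
  rw [← ZMod.natCast_eq_natCast_iff, Nat.cast_one]
  constructor
  · intro h1
    rw [← h1]
    rw [ZMod.castHom_apply, ZMod.natCast_val]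
  · intro h1
    rw [ZMod.castHom_apply, ← ZMod.natCast_val, h1]

/-- an element of a stabilizer, from its 2-part and its odd part -/
theorem mem_of_parts {K : Type*} [Group K] [Finite K] (T : Subgroup K) (h2 : ∀ u : K, (∃ k, u ^ 2 ^ k = 1) → u ∈ T)
    (ho : ∀ u : K, (∃ m, Odd m ∧ u ^ m = 1) → u ∈ T) (u : K) : u ∈ T := by
  obtain ⟨k, m, hm, hn⟩ := Nat.exists_eq_two_pow_mul_odd (orderOf_pos u).ne'
  have h1 : u ^ m ∈ T := h2 _ ⟨k, by rw [← pow_mul, mul_comm, ← hn, pow_orderOf_eq_one]⟩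
  have h3 : u ^ (2 ^ k) ∈ T := ho _ ⟨m, hm, by rw [← pow_mul, ← hn, pow_orderOf_eq_one]⟩
  have hc : Nat.Coprime m (2 ^ k) := (Nat.Coprime.pow_right k (Nat.coprime_two_right.2 hm))
  have h4 : u = (u ^ m) ^ (Nat.gcdA m (2 ^ k)) * (u ^ 2 ^ k) ^ (Nat.gcdB m (2 ^ k)) := by
    have h5 := Nat.gcd_eq_gcd_ab m (2 ^ k)
    rw [hc, Nat.cast_one] at h5
    rw [← zpow_natCast u m, ← zpow_natCast u (2 ^ k), ← zpow_mul, ← zpow_mul, ← zpow_add, ← h5, zpow_one]
  rw [h4]
  exact T.mul_mem (T.zpow_mem h1 _) (T.zpow_mem h3 _)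

theorem val_pow_eq [Finite G] {k : ℕ} (hk : k.Coprime (Nat.card G)) {x : G} {χ : IrrCharacter G} {z : ℤ}
    (h : (χ : G → ℂ) x = z) : (χ : G → ℂ) (x ^ k) = z := by
  obtain ⟨σ, hσ⟩ := Cfsg.Agent.Characters.Galois.exists_ringEquiv_complex Nat.card_pos.ne' hk
  have h1 := OddOrderCharacters.GaloisTwist.map_apply σ Nat.card_pos.ne' hσ (Blocks.Basic.irr_isCharacter χ.2) x
    pow_card_eq_one'
  rw [← h1, h, map_intCast]

/-- the number of odd terms of an even sum -/
theorem even_card {ι : Type*} (s : Finset ι) (f : ι → ℤ) (h : Even (∑ i ∈ s, f i)) :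
    Even (s.filter fun i => Odd (f i)).card := by
  classical
  have h1 : ((∑ i ∈ s, f i : ℤ) : ZMod 2) = ((s.filter fun i => Odd (f i)).card : ZMod 2) := by
    rw [Int.cast_sum, Finset.card_filter, Nat.cast_sum]
    refine Finset.sum_congr rfl fun i _ => ?_
    by_cases hi : Odd (f i)
    · rw [if_pos hi]
      obtain ⟨k, hk⟩ := hi
      rw [hk]
      push_cast
      rw [show (2 : ZMod 2) = 0 from rfl]
      ring
    · rw [if_neg hi]
      rw [Int.not_odd_iff_even] at hi
      obtain ⟨k, hk⟩ := hi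
      rw [hk]
      push_cast
      rw [← two_mul, show (2 : ZMod 2) = 0 from rfl]
      ring
  have h2 : ((∑ i ∈ s, f i : ℤ) : ZMod 2) = 0 := by
    rw [ZMod.intCast_zmod_eq_zero_iff_dvd]
    exact h.two_dvd
  rw [h1, ZMod.natCast_eq_zero_iff] at h2
  exact even_iff_two_dvd.2 h2

/-- **The parity argument.** -/
theorem exists_odd [Finite G] {p : ℕ} [hp : Fact p.Prime] {M : Ideal AlgInt} (hM : IsPModular p M) {x : G}
    (hx : p ∣ orderOf x) (hz : ∀ χ : IrrCharacter G, ∃ z : ℤ, (χ : G → ℂ) x = z)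
    (hodd : ∀ k : ℕ, k.Coprime (Nat.card G) → k ≡ 1 [MOD p] → (∃ m, Odd m ∧ k ^ m ≡ 1 [MOD Nat.card G]) →
      ∀ g : G, IsConj (g ^ k) g) :
    ∃ θ : IrrCharacter G, θ ∈ principalBlock M G ∧ (θ : G → ℂ) ≠ (fun _ => 1) ∧ Odd (charDegree (θ : G → ℂ)) ∧
      (∃ z : ℤ, Odd z ∧ (θ : G → ℂ) x = z) ∧ Cyc p (θ : G → ℂ) := by
  classical
  have := Fintype.ofFinite G
  have hfin : Finite (IrrCharacter G) := S0909.finite_irr
  have := Fintype.ofFinite (IrrCharacter G)
  have hpn : p ∣ Nat.card G := hx.trans (orderOf_dvd_natCard x)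
  choose z hz using hz
  have hpI : M.IsPrime := hM.2.1.isPrime
  let one : IrrCharacter G := ⟨fun _ => 1, Blocks.Basic.isIrrCharacter_one⟩
  have hone : one ∈ principalBlock M G := Blocks.Basic.sameBlock_refl (M := M) (fun _ : G => (1 : ℂ))
  -- the set
  let f : IrrCharacter G → ℤ := fun χ => (charDegree (χ : G → ℂ) : ℤ) * z χ
  have hsum : ∑ χ ∈ (principalBlock M G).toFinset, f χ = 0 := by
    have h1 := S0907.result p M hM (principalBlock M G) ⟨one, rfl⟩ (1 : G) x
      (by rw [orderOf_one]; exact hp.out.one_lt.ne' ∘ Nat.dvd_one.1) hx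
    rw [finsum_mem_eq_toFinset_sum] at h1
    have h2 : ((∑ χ ∈ (principalBlock M G).toFinset, f χ : ℤ) : ℂ) = 0 := by
      rw [← h1, Int.cast_sum]
      refine Finset.sum_congr rfl fun χ _ => ?_
      simp only [f]
      rw [hz χ, charDegree_cast]
      push_cast
      simp
    exact_mod_cast h2
  have hzone : z one = 1 := by
    have h1 : ((z one : ℤ) : ℂ) = 1 := (hz one).symm
    exact_mod_cast h1
  have hdone : charDegree (one : G → ℂ) = 1 := by
    have h1 : ((charDegree (one : G → ℂ) : ℕ) : ℂ) = 1 := (charDegree_cast one).symm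
    exact_mod_cast h1
  let n := Nat.card G
  let K : Subgroup (ZMod n)ˣ := ker p n hpn
  have hfK : ∀ (u : (ZMod n)ˣ) (χ : IrrCharacter G), f (u • χ) = f χ := by
    intro u χ
    have h1 : z (u • χ) = z χ := by
      have h2 : ((z (u • χ) : ℤ) : ℂ) = z χ := by
        rw [← hz (u • χ), act_apply]
        exact val_pow_eq (ZMod.val_coe_unit_coprime u) (hz χ)
      exact_mod_cast h2
    have h3 : charDegree ((u • χ : IrrCharacter G) : G → ℂ) = charDegree (χ : G → ℂ) := by
      have h4 : ((charDegree ((u • χ : IrrCharacter G) : G → ℂ) : ℕ) : ℂ) = charDegree (χ : G → ℂ) := by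
        rw [← charDegree_cast, ← charDegree_cast, act_apply, one_pow]
      exact_mod_cast h4
    simp only [f, h1, h3]
  let X : Type u := {χ : IrrCharacter G // χ ∈ principalBlock M G ∧ Odd (f χ)}
  have hX : Even (Nat.card X) := by
    have h1 := even_card (principalBlock M G).toFinset f (by rw [hsum]; exact Even.zero)
    have h2 : Nat.card X = ((principalBlock M G).toFinset.filter fun χ => Odd (f χ)).card := by
      rw [Nat.card_eq_fintype_card]
      refine Fintype.card_of_subtype _ fun χ => ?_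
      rw [Finset.mem_filter, Set.mem_toFinset]
    rw [h2]
    exact h1
  let T : Subgroup (ZMod n)ˣ := (CommGroup.primaryComponent (ZMod n)ˣ 2) ⊓ K
  have hT : IsPGroup 2 T := (CommGroup.primaryComponent.isPGroup (G := (ZMod n)ˣ) (p := 2)).to_le inf_le_left
  let aX : MulAction T X :=
    { smul := fun u χ => ⟨(u : (ZMod n)ˣ) • χ.1, powC_mem (ZMod.val_coe_unit_coprime _) χ.2.1, by
        rw [hfK]; exact χ.2.2⟩
      one_smul := fun χ => Subtype.ext (one_smul (ZMod n)ˣ χ.1)
      mul_smul := fun u v χ => Subtype.ext (mul_smul (u : (ZMod n)ˣ) (v : (ZMod n)ˣ) χ.1) }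
  have hfix := hT.card_modEq_card_fixedPoints X
  have hev : Even (Nat.card (MulAction.fixedPoints T X)) := by
    rw [Nat.even_iff] at hX ⊢
    rw [← hX]
    exact hfix.symm
  let o : X := ⟨one, hone, by
    show Odd ((charDegree (one : G → ℂ) : ℤ) * z one)
    rw [hdone, hzone]
    exact odd_one⟩
  have ho : o ∈ MulAction.fixedPoints T X := fun u => Subtype.ext (Subtype.ext rfl)
  have hex : ∃ θ ∈ MulAction.fixedPoints T X, θ ≠ o := by
    by_contra hcon
    push Not at hcon
    have h1 : Nat.card (MulAction.fixedPoints T X) = 1 := by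
      rw [Nat.card_eq_one_iff_unique]
      refine ⟨⟨fun a b => Subtype.ext ?_⟩, ⟨⟨o, ho⟩⟩⟩
      rw [hcon a.1 a.2, hcon b.1 b.2]
    rw [h1] at hev
    exact absurd hev (by decide)
  obtain ⟨θ, hθ, hθo⟩ := hex
  have hfθ : Odd (f θ.1) := θ.2.2
  have hsplit : Odd (charDegree (θ.1 : G → ℂ)) ∧ Odd (z θ.1) := by
    have h1 := Int.odd_mul.1 hfθ
    exact ⟨by exact_mod_cast h1.1, h1.2⟩
  refine ⟨θ.1, θ.2.1, fun h => hθo (Subtype.ext (Subtype.ext h)), hsplit.1, ⟨z θ.1, hsplit.2, hz θ.1⟩, ?_⟩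
  -- the stabilizer
  have hstab : ∀ u : K, (u : (ZMod n)ˣ) • θ.1 = θ.1 := by
    let S : Subgroup K := (MulAction.stabilizer (ZMod n)ˣ θ.1).subgroupOf K
    have hS : ∀ u : K, u ∈ S := by
      refine mem_of_parts S (fun u hu => ?_) (fun u hu => ?_)
      · obtain ⟨k, hk⟩ := hu
        have h1 : (u : (ZMod n)ˣ) ∈ T := by
          refine ⟨CommGroup.mem_primaryComponent.2 ⟨k, congrArg Subtype.val hk⟩, u.2⟩
        have h2 := hθ ⟨u, h1⟩
        exact congrArg Subtype.val h2
      · obtain ⟨m, hm, hum⟩ := hu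
        have hk : (u : (ZMod n)ˣ) ^ m = 1 := congrArg Subtype.val hum
        show (u : (ZMod n)ˣ) • θ.1 = θ.1
        apply Subtype.ext
        funext g
        rw [act_apply]
        have hk1 : ((u : (ZMod n)ˣ) : ZMod n).val ^ m ≡ 1 [MOD Nat.card G] := by
          rw [← ZMod.natCast_eq_natCast_iff]
          have h5 : ((((u : (ZMod n)ˣ) : ZMod n).val : ℕ) : ZMod (Nat.card G)) = ((u : (ZMod n)ˣ) : ZMod n) :=
            ZMod.natCast_zmod_val _
          rw [Nat.cast_pow, h5, ← Units.val_pow_eq_pow_val, hk, Units.val_one, Nat.cast_one]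
        obtain ⟨c, hc⟩ := isConj_iff.1 (hodd _ (ZMod.val_coe_unit_coprime (u : (ZMod n)ˣ)) ((mem_ker hpn _).1 u.2)
          ⟨m, hm, hk1⟩ g)
        have e := Blocks.Basic.irr_conj θ.1.2 (g ^ ((u : (ZMod n)ˣ) : ZMod n).val) c
        rw [hc] at e
        exact e.symm
    exact fun u => hS u
  intro k hk hkp g
  let u : (ZMod n)ˣ := ZMod.unitOfCoprime k hk
  have hu : u ∈ K := by
    rw [mem_ker]
    have h1 : ((u : (ZMod n)ˣ) : ZMod n).val ≡ k [MOD p] := by
      rw [ZMod.coe_unitOfCoprime, ZMod.val_natCast]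
      exact (Nat.mod_modEq k n).of_dvd hpn
    exact h1.trans hkp
  have h2 := congrFun (congrArg Subtype.val (hstab ⟨u, hu⟩)) g
  rw [← h2, act_apply]
  show _ = (θ.1 : G → ℂ) (g ^ ((ZMod.unitOfCoprime k hk : (ZMod n)ˣ) : ZMod n).val)
  rw [ZMod.coe_unitOfCoprime, pow_val]

/-- heights are zero in the principal block when `p ^ 3` does not divide the order -/
theorem not_dvd_deg [Finite G] {p : ℕ} [hp : Fact p.Prime] {M : Ideal AlgInt} (hM : IsPModular p M)
    (h3 : ¬ p ^ 3 ∣ Nat.card G) {θ : IrrCharacter G} (hθ : θ ∈ principalBlock M G) :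
    ¬ p ∣ charDegree (θ : G → ℂ) := by
  have := Fintype.ofFinite G
  intro hd
  have hpI : M.IsPrime := hM.2.1.isPrime
  let one : IrrCharacter G := ⟨fun _ => 1, Blocks.Basic.isIrrCharacter_one⟩
  have hone : one ∈ principalBlock M G := Blocks.Basic.sameBlock_refl (M := M) (fun _ : G => (1 : ℂ))
  have hdone : charDegree (one : G → ℂ) = 1 := by
    have h1 : ((charDegree (one : G → ℂ) : ℕ) : ℂ) = 1 := (charDegree_cast one).symm
    exact_mod_cast h1
  have h0 : sInf ((fun χ : IrrCharacter G => (charDegree (χ : G → ℂ)).factorization p) '' principalBlock M G) = 0 := by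
    refine Nat.sInf_eq_zero.2 (Or.inl ⟨one, hone, ?_⟩)
    show (charDegree (one : G → ℂ)).factorization p = 0
    rw [hdone, Nat.factorization_one]
    rfl
  have hpos : charDegree (θ : G → ℂ) ≠ 0 := by
    intro h1
    have h2 := charDegree_cast θ
    rw [h1] at h2
    exact Blocks.Basic.irr_one_ne_zero θ.2 (by simpa using h2)
  have hh : blockHeight p (principalBlock M G) (θ : G → ℂ) = (charDegree (θ : G → ℂ)).factorization p := by
    unfold blockHeight
    rw [h0, Nat.sub_zero]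
  have hf : 1 ≤ (charDegree (θ : G → ℂ)).factorization p := by
    refine (hp.out.pow_dvd_iff_le_factorization hpos).1 ?_
    rwa [pow_one]
  have h4 := H657.BrauerFeit.height_add_two_le (p := p) hM (B := principalBlock M G) ⟨one, rfl⟩ hθ (by omega)
  have h5 : blockDefect p (principalBlock M G) = (Nat.card G).factorization p := by
    unfold blockDefect
    rw [h0, Nat.sub_zero]
  have h6 : (Nat.card G).factorization p ≤ 2 := by
    by_contra h
    exact h3 ((hp.out.pow_dvd_iff_le_factorization Nat.card_pos.ne').2 (by omega))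
  omega

/-- `r` generates the elements of odd order, congruent to 1 modulo `p` if `p ∣ m`, of `(Z/m)ˣ`; `E` is odd -/
def chk (p E m r : ℕ) : Bool :=
  decide (E % 2 = 1) && decide (Nat.totient m ∣ 2 ^ 20 * E) && (List.range m).all fun k =>
    !(k ^ E % m == 1 % m) || (decide (m % p = 0) && !(k % p == 1)) || (List.range m).any fun i => r ^ i % m == k

theorem conj_pow_of {g : G} {r : ℕ} (h : IsConj (g ^ r) g) (i : ℕ) : IsConj (g ^ (r ^ i)) g := by
  induction i with
  | zero => rw [pow_zero, pow_one]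
  | succ i ih =>
    rw [pow_succ, mul_comm, pow_mul]
    obtain ⟨c, hc⟩ := isConj_iff.1 h
    refine IsConj.trans (isConj_iff.2 ⟨c, ?_⟩) ih
    rw [← conj_pow, hc]

/-- the condition on the elements -/
def Good (p : ℕ) (g : G) : Prop := (∃ s, Nat.totient (orderOf g) ∣ 2 ^ s) ∨
  ∃ E r : ℕ, IsConj (g ^ r) g ∧ chk p E (orderOf g) r = true

theorem isConj_of_good [Finite G] {p : ℕ} [hp : Fact p.Prime] {g : G} (h : Good p g) {k : ℕ} (hk : k.Coprime (Nat.card G))
    (hkp : k ≡ 1 [MOD p]) (ho : ∃ m, Odd m ∧ k ^ m ≡ 1 [MOD Nat.card G]) : IsConj (g ^ k) g := by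
  obtain ⟨j, hj, hkj⟩ := ho
  have hm0 : 0 < orderOf g := orderOf_pos g
  have hkm : k.Coprime (orderOf g) := hk.coprime_dvd_right (orderOf_dvd_natCard g)
  have hkj' : k ^ j ≡ 1 [MOD orderOf g] := hkj.of_dvd (orderOf_dvd_natCard g)
  have key : ∀ N : ℕ, k ^ N ≡ 1 [MOD orderOf g] → k ^ (Nat.gcd j N) ≡ 1 [MOD orderOf g] := by
    intro N hN
    have h1 : ∀ n, k ^ n ≡ 1 [MOD orderOf g] ↔ (ZMod.unitOfCoprime k hkm) ^ n = 1 := by
      intro n
      rw [← ZMod.natCast_eq_natCast_iff, Units.ext_iff, Units.val_pow_eq_pow_val, ZMod.coe_unitOfCoprime,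
        Nat.cast_pow, Nat.cast_one, Units.val_one]
    rw [h1] at hkj' hN ⊢
    exact pow_gcd_eq_one.2 ⟨hkj', hN⟩
  have hphi : k ^ (Nat.totient (orderOf g)) ≡ 1 [MOD orderOf g] := Nat.ModEq.pow_totient hkm
  rcases h with ⟨s, hs⟩ | ⟨E, r, hr, hc⟩
  · have h1 : k ^ (2 ^ s) ≡ 1 [MOD orderOf g] := by
      obtain ⟨c, hc⟩ := hs
      rw [hc, pow_mul]
      simpa using hphi.pow c
    have h2 := key _ h1
    have h3 : Nat.gcd j (2 ^ s) = 1 := Nat.Coprime.pow_right s (Nat.coprime_two_right.2 hj)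
    rw [h3, pow_one] at h2
    have h4 : g ^ k = g := by
      have h5 := pow_eq_pow_iff_modEq.2 h2
      rw [h5, pow_one]
    rw [h4]
  · unfold chk at hc
    simp only [Bool.and_eq_true, decide_eq_true_eq, List.all_eq_true, List.mem_range, Bool.or_eq_true,
      Bool.not_eq_true', beq_eq_false_iff_ne, beq_iff_eq, List.any_eq_true, ne_eq] at hc
    obtain ⟨⟨hE, hd⟩, hc⟩ := hc
    have h1 : k ^ (2 ^ 20 * E) ≡ 1 [MOD orderOf g] := by
      obtain ⟨c, hc⟩ := hd
      rw [hc, pow_mul]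
      simpa using hphi.pow c
    have h2 := key _ h1
    have h3 : Nat.gcd j (2 ^ 20 * E) ∣ E := by
      have h5 : Nat.Coprime (Nat.gcd j (2 ^ 20 * E)) (2 ^ 20) := by
        refine Nat.Coprime.pow_right 20 ?_
        rw [Nat.coprime_two_right]
        exact Odd.of_dvd_nat hj (Nat.gcd_dvd_left _ _)
      exact h5.dvd_of_dvd_mul_left (Nat.gcd_dvd_right _ _)
    have h4 : k ^ E ≡ 1 [MOD orderOf g] := by
      obtain ⟨c, hc⟩ := h3
      rw [hc, pow_mul]
      simpa using h2.pow c
    have h5 := hc (k % orderOf g) (Nat.mod_lt _ hm0)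
    have h6 : (k % orderOf g) ^ E % orderOf g = 1 % orderOf g := by
      rw [← Nat.pow_mod]
      exact h4
    rcases h5 with (h5 | ⟨h5, h7⟩) | ⟨i, -, hi⟩
    · exact absurd h6 h5
    · exfalso
      apply h7
      rw [Nat.mod_mod_of_dvd _ (Nat.dvd_of_mod_eq_zero h5), hkp]
      exact Nat.mod_eq_of_lt hp.out.one_lt
    · have h7 : g ^ k = g ^ (r ^ i) := by
        rw [pow_eq_pow_iff_modEq]
        show k % orderOf g = r ^ i % orderOf g
        rw [hi]
      rw [h7]
      exact conj_pow_of hr i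

/-- **The parity tool, `p ^ 3 ∤ |G|`.** -/
theorem witO [Finite G] {p : ℕ} [hp : Fact p.Prime] (h3 : ¬ p ^ 3 ∣ Nat.card G) {x : G}
    (hx : p ∣ orderOf x) (hz : ∀ χ : IrrCharacter G, ∃ z : ℤ, (χ : G → ℂ) x = z)
    (hg : ∀ g : G, Good p g) : H629.CY.WitO p G := by
  intro M hM
  obtain ⟨θ, h1, h2, h4, -, h5⟩ := exists_odd hM hx hz (fun k hk hkp ho g => isConj_of_good (hg g) hk hkp ho)
  exact ⟨θ, h1, h2, not_dvd_deg hM h3 h1, h4, h5⟩

end Cfsg.Agent.H517.CY
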